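import Mathlib

/-!
Certificates: in SL₃(3) the listed matrices are products of two conjugates of an element of order 13.
-/

set_option autoImplicit false

namespace CfsgLib.SL3

/-- An element of order 13. -/
def x13 : Matrix.SpecialLinearGroup (Fin 3) (ZMod 3) := ⟨!![0, 0, 1; 1, 0, 0; 0, 1, 2], by decide⟩

theorem isConj_x13 (u B : Matrix (Fin 3) (Fin 3) (ZMod 3)) (hB : B.det = 1) (hu : u.det = 1)
    (h : u * x13.1 = B * u) :
    IsConj x13 (⟨B, hB⟩ : Matrix.SpecialLinearGroup (Fin 3) (ZMod 3)) :=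
  ⟨toUnits (⟨u, hu⟩ : Matrix.SpecialLinearGroup (Fin 3) (ZMod 3)), Subtype.ext h⟩

/-- `A` is a product of two conjugates of `x13`. -/
def Covered (A : Matrix (Fin 3) (Fin 3) (ZMod 3)) : Prop :=
  ∃ B C : Matrix.SpecialLinearGroup (Fin 3) (ZMod 3), IsConj x13 B ∧ IsConj x13 C ∧ A = B.1 * C.1

def conj0 : Matrix.SpecialLinearGroup (Fin 3) (ZMod 3) := ⟨!![1, 2, 1; 1, 2, 0; 0, 1, 2], by decide⟩
theorem isConj_conj0 : IsConj x13 conj0 :=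
  isConj_x13 !![1, 1, 0; 0, 1, 0; 0, 0, 1] _ _ (by decide) (by decide)
def conj1 : Matrix.SpecialLinearGroup (Fin 3) (ZMod 3) := ⟨!![0, 1, 1; 2, 1, 1; 2, 0, 1], by decide⟩
theorem isConj_conj1 : IsConj x13 conj1 :=
  isConj_x13 !![1, 2, 0; 2, 1, 1; 0, 2, 0] _ _ (by decide) (by decide)
def conj2 : Matrix.SpecialLinearGroup (Fin 3) (ZMod 3) := ⟨!![1, 2, 2; 1, 2, 1; 2, 2, 2], by decide⟩
theorem isConj_conj2 : IsConj x13 conj2 :=
  isConj_x13 !![2, 1, 0; 1, 1, 0; 0, 0, 1] _ _ (by decide) (by decide)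
def conj3 : Matrix.SpecialLinearGroup (Fin 3) (ZMod 3) := ⟨!![0, 1, 0; 1, 1, 1; 2, 0, 1], by decide⟩
theorem isConj_conj3 : IsConj x13 conj3 :=
  isConj_x13 !![2, 2, 2; 2, 2, 0; 1, 2, 0] _ _ (by decide) (by decide)
def conj4 : Matrix.SpecialLinearGroup (Fin 3) (ZMod 3) := ⟨!![1, 1, 2; 1, 1, 0; 0, 2, 0], by decide⟩
theorem isConj_conj4 : IsConj x13 conj4 :=
  isConj_x13 !![1, 0, 2; 2, 0, 0; 0, 1, 0] _ _ (by decide) (by decide)
def conj5 : Matrix.SpecialLinearGroup (Fin 3) (ZMod 3) := ⟨!![1, 1, 2; 0, 2, 1; 1, 0, 2], by decide⟩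
theorem isConj_conj5 : IsConj x13 conj5 :=
  isConj_x13 !![0, 2, 1; 0, 1, 1; 1, 2, 0] _ _ (by decide) (by decide)
def conj6 : Matrix.SpecialLinearGroup (Fin 3) (ZMod 3) := ⟨!![2, 2, 2; 2, 1, 2; 1, 1, 2], by decide⟩
theorem isConj_conj6 : IsConj x13 conj6 :=
  isConj_x13 !![0, 0, 1; 2, 1, 0; 1, 1, 0] _ _ (by decide) (by decide)
def conj7 : Matrix.SpecialLinearGroup (Fin 3) (ZMod 3) := ⟨!![1, 2, 1; 2, 0, 0; 0, 1, 1], by decide⟩
theorem isConj_conj7 : IsConj x13 conj7 :=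
  isConj_x13 !![2, 2, 0; 1, 1, 1; 1, 2, 0] _ _ (by decide) (by decide)
def conj8 : Matrix.SpecialLinearGroup (Fin 3) (ZMod 3) := ⟨!![0, 2, 1; 0, 0, 2; 1, 1, 2], by decide⟩
theorem isConj_conj8 : IsConj x13 conj8 :=
  isConj_x13 !![1, 1, 0; 2, 0, 0; 0, 0, 1] _ _ (by decide) (by decide)
def conj9 : Matrix.SpecialLinearGroup (Fin 3) (ZMod 3) := ⟨!![0, 1, 2; 2, 0, 1; 2, 0, 2], by decide⟩
theorem isConj_conj9 : IsConj x13 conj9 :=
  isConj_x13 !![1, 2, 1; 1, 1, 1; 2, 0, 1] _ _ (by decide) (by decide)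
def conj10 : Matrix.SpecialLinearGroup (Fin 3) (ZMod 3) := ⟨!![2, 2, 1; 1, 0, 0; 1, 1, 0], by decide⟩
theorem isConj_conj10 : IsConj x13 conj10 :=
  isConj_x13 !![0, 0, 1; 1, 0, 0; 1, 1, 0] _ _ (by decide) (by decide)
def conj11 : Matrix.SpecialLinearGroup (Fin 3) (ZMod 3) := ⟨!![1, 0, 1; 2, 1, 1; 0, 1, 0], by decide⟩
theorem isConj_conj11 : IsConj x13 conj11 :=
  isConj_x13 !![1, 0, 0; 0, 1, 1; 2, 0, 1] _ _ (by decide) (by decide)
def conj12 : Matrix.SpecialLinearGroup (Fin 3) (ZMod 3) := ⟨!![2, 0, 1; 2, 1, 0; 2, 1, 2], by decide⟩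
theorem isConj_conj12 : IsConj x13 conj12 :=
  isConj_x13 !![0, 0, 1; 1, 1, 1; 0, 1, 0] _ _ (by decide) (by decide)
def conj13 : Matrix.SpecialLinearGroup (Fin 3) (ZMod 3) := ⟨!![1, 2, 1; 2, 2, 0; 1, 2, 2], by decide⟩
theorem isConj_conj13 : IsConj x13 conj13 :=
  isConj_x13 !![0, 0, 2; 1, 2, 1; 1, 1, 0] _ _ (by decide) (by decide)
def conj14 : Matrix.SpecialLinearGroup (Fin 3) (ZMod 3) := ⟨!![2, 2, 1; 1, 1, 1; 2, 1, 2], by decide⟩
theorem isConj_conj14 : IsConj x13 conj14 :=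
  isConj_x13 !![1, 1, 0; 1, 2, 0; 0, 0, 1] _ _ (by decide) (by decide)
def conj15 : Matrix.SpecialLinearGroup (Fin 3) (ZMod 3) := ⟨!![0, 1, 2; 2, 2, 0; 2, 0, 0], by decide⟩
theorem isConj_conj15 : IsConj x13 conj15 :=
  isConj_x13 !![0, 1, 0; 0, 0, 2; 2, 0, 2] _ _ (by decide) (by decide)
def conj16 : Matrix.SpecialLinearGroup (Fin 3) (ZMod 3) := ⟨!![2, 2, 2; 1, 1, 0; 0, 2, 2], by decide⟩
theorem isConj_conj16 : IsConj x13 conj16 :=
  isConj_x13 !![2, 1, 0; 0, 2, 0; 0, 0, 1] _ _ (by decide) (by decide)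
def conj17 : Matrix.SpecialLinearGroup (Fin 3) (ZMod 3) := ⟨!![0, 1, 1; 1, 2, 1; 2, 0, 0], by decide⟩
theorem isConj_conj17 : IsConj x13 conj17 :=
  isConj_x13 !![0, 0, 1; 1, 1, 2; 2, 0, 0] _ _ (by decide) (by decide)
def conj18 : Matrix.SpecialLinearGroup (Fin 3) (ZMod 3) := ⟨!![2, 0, 1; 1, 2, 2; 0, 1, 1], by decide⟩
theorem isConj_conj18 : IsConj x13 conj18 :=
  isConj_x13 !![0, 0, 1; 1, 2, 0; 0, 1, 0] _ _ (by decide) (by decide)
def conj19 : Matrix.SpecialLinearGroup (Fin 3) (ZMod 3) := ⟨!![1, 0, 2; 2, 2, 0; 1, 1, 2], by decide⟩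
theorem isConj_conj19 : IsConj x13 conj19 :=
  isConj_x13 !![2, 2, 1; 2, 2, 2; 0, 1, 0] _ _ (by decide) (by decide)
def conj20 : Matrix.SpecialLinearGroup (Fin 3) (ZMod 3) := ⟨!![0, 1, 2; 2, 0, 0; 2, 2, 2], by decide⟩
theorem isConj_conj20 : IsConj x13 conj20 :=
  isConj_x13 !![0, 1, 0; 2, 0, 2; 1, 0, 2] _ _ (by decide) (by decide)
def conj21 : Matrix.SpecialLinearGroup (Fin 3) (ZMod 3) := ⟨!![2, 1, 1; 1, 0, 0; 2, 1, 0], by decide⟩
theorem isConj_conj21 : IsConj x13 conj21 :=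
  isConj_x13 !![0, 0, 1; 1, 0, 0; 2, 1, 0] _ _ (by decide) (by decide)
def conj22 : Matrix.SpecialLinearGroup (Fin 3) (ZMod 3) := ⟨!![1, 0, 2; 1, 0, 1; 0, 1, 1], by decide⟩
theorem isConj_conj22 : IsConj x13 conj22 :=
  isConj_x13 !![2, 1, 1; 2, 0, 1; 1, 0, 0] _ _ (by decide) (by decide)
def conj23 : Matrix.SpecialLinearGroup (Fin 3) (ZMod 3) := ⟨!![0, 0, 1; 1, 0, 1; 2, 1, 2], by decide⟩
theorem isConj_conj23 : IsConj x13 conj23 :=
  isConj_x13 !![1, 0, 0; 1, 1, 0; 0, 0, 1] _ _ (by decide) (by decide)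
def conj24 : Matrix.SpecialLinearGroup (Fin 3) (ZMod 3) := ⟨!![1, 2, 2; 1, 0, 2; 0, 1, 1], by decide⟩
theorem isConj_conj24 : IsConj x13 conj24 :=
  isConj_x13 !![2, 1, 1; 1, 2, 0; 0, 1, 0] _ _ (by decide) (by decide)
def conj25 : Matrix.SpecialLinearGroup (Fin 3) (ZMod 3) := ⟨!![2, 0, 1; 1, 1, 2; 0, 1, 2], by decide⟩
theorem isConj_conj25 : IsConj x13 conj25 :=
  isConj_x13 !![0, 0, 1; 1, 1, 0; 0, 1, 0] _ _ (by decide) (by decide)
def conj26 : Matrix.SpecialLinearGroup (Fin 3) (ZMod 3) := ⟨!![1, 0, 2; 1, 1, 2; 1, 1, 0], by decide⟩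
theorem isConj_conj26 : IsConj x13 conj26 :=
  isConj_x13 !![2, 1, 1; 1, 2, 0; 1, 0, 0] _ _ (by decide) (by decide)
def conj27 : Matrix.SpecialLinearGroup (Fin 3) (ZMod 3) := ⟨!![0, 1, 0; 1, 1, 2; 1, 0, 1], by decide⟩
theorem isConj_conj27 : IsConj x13 conj27 :=
  isConj_x13 !![1, 1, 1; 1, 1, 0; 1, 2, 0] _ _ (by decide) (by decide)
def conj28 : Matrix.SpecialLinearGroup (Fin 3) (ZMod 3) := ⟨!![2, 1, 0; 0, 1, 1; 1, 2, 2], by decide⟩
theorem isConj_conj28 : IsConj x13 conj28 :=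
  isConj_x13 !![2, 2, 2; 1, 1, 2; 0, 1, 0] _ _ (by decide) (by decide)
def conj29 : Matrix.SpecialLinearGroup (Fin 3) (ZMod 3) := ⟨!![0, 0, 2; 1, 0, 1; 2, 2, 2], by decide⟩
theorem isConj_conj29 : IsConj x13 conj29 :=
  isConj_x13 !![2, 0, 0; 1, 2, 0; 0, 0, 1] _ _ (by decide) (by decide)
def conj30 : Matrix.SpecialLinearGroup (Fin 3) (ZMod 3) := ⟨!![1, 1, 2; 2, 0, 1; 0, 2, 1], by decide⟩
theorem isConj_conj30 : IsConj x13 conj30 :=
  isConj_x13 !![0, 1, 1; 0, 2, 1; 2, 2, 0] _ _ (by decide) (by decide)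
def conj31 : Matrix.SpecialLinearGroup (Fin 3) (ZMod 3) := ⟨!![0, 1, 1; 2, 1, 0; 2, 1, 1], by decide⟩
theorem isConj_conj31 : IsConj x13 conj31 :=
  isConj_x13 !![2, 1, 1; 1, 2, 1; 0, 2, 0] _ _ (by decide) (by decide)
def conj32 : Matrix.SpecialLinearGroup (Fin 3) (ZMod 3) := ⟨!![2, 0, 1; 1, 0, 0; 0, 1, 0], by decide⟩
theorem isConj_conj32 : IsConj x13 conj32 :=
  isConj_x13 !![0, 0, 1; 1, 0, 0; 0, 1, 0] _ _ (by decide) (by decide)
def conj33 : Matrix.SpecialLinearGroup (Fin 3) (ZMod 3) := ⟨!![1, 0, 2; 0, 0, 2; 1, 1, 1], by decide⟩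
theorem isConj_conj33 : IsConj x13 conj33 :=
  isConj_x13 !![1, 1, 1; 2, 0, 0; 0, 0, 1] _ _ (by decide) (by decide)
def conj34 : Matrix.SpecialLinearGroup (Fin 3) (ZMod 3) := ⟨!![2, 2, 1; 1, 2, 2; 1, 1, 1], by decide⟩
theorem isConj_conj34 : IsConj x13 conj34 :=
  isConj_x13 !![0, 0, 1; 1, 1, 0; 1, 2, 0] _ _ (by decide) (by decide)
def conj35 : Matrix.SpecialLinearGroup (Fin 3) (ZMod 3) := ⟨!![2, 2, 1; 1, 2, 0; 0, 2, 1], by decide⟩
theorem isConj_conj35 : IsConj x13 conj35 :=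
  isConj_x13 !![0, 1, 0; 0, 0, 1; 1, 1, 1] _ _ (by decide) (by decide)
def conj36 : Matrix.SpecialLinearGroup (Fin 3) (ZMod 3) := ⟨!![1, 0, 2; 1, 1, 1; 0, 1, 0], by decide⟩
theorem isConj_conj36 : IsConj x13 conj36 :=
  isConj_x13 !![1, 0, 2; 1, 0, 1; 1, 1, 0] _ _ (by decide) (by decide)
def conj37 : Matrix.SpecialLinearGroup (Fin 3) (ZMod 3) := ⟨!![1, 1, 0; 0, 0, 2; 1, 2, 1], by decide⟩
theorem isConj_conj37 : IsConj x13 conj37 :=
  isConj_x13 !![1, 2, 1; 1, 2, 2; 1, 1, 1] _ _ (by decide) (by decide)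
def conj38 : Matrix.SpecialLinearGroup (Fin 3) (ZMod 3) := ⟨!![0, 0, 1; 2, 2, 1; 2, 1, 0], by decide⟩
theorem isConj_conj38 : IsConj x13 conj38 :=
  isConj_x13 !![1, 0, 1; 2, 0, 1; 0, 1, 0] _ _ (by decide) (by decide)
def conj39 : Matrix.SpecialLinearGroup (Fin 3) (ZMod 3) := ⟨!![2, 2, 1; 1, 1, 0; 0, 1, 2], by decide⟩
theorem isConj_conj39 : IsConj x13 conj39 :=
  isConj_x13 !![1, 2, 0; 0, 1, 0; 0, 0, 1] _ _ (by decide) (by decide)
def conj40 : Matrix.SpecialLinearGroup (Fin 3) (ZMod 3) := ⟨!![0, 2, 0; 1, 2, 2; 1, 2, 0], by decide⟩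
theorem isConj_conj40 : IsConj x13 conj40 :=
  isConj_x13 !![1, 2, 1; 1, 2, 0; 1, 0, 0] _ _ (by decide) (by decide)
def conj41 : Matrix.SpecialLinearGroup (Fin 3) (ZMod 3) := ⟨!![1, 1, 1; 2, 0, 2; 0, 1, 1], by decide⟩
theorem isConj_conj41 : IsConj x13 conj41 :=
  isConj_x13 !![2, 1, 1; 2, 1, 0; 0, 2, 0] _ _ (by decide) (by decide)
def conj42 : Matrix.SpecialLinearGroup (Fin 3) (ZMod 3) := ⟨!![0, 0, 1; 1, 0, 2; 1, 1, 2], by decide⟩
theorem isConj_conj42 : IsConj x13 conj42 :=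
  isConj_x13 !![1, 0, 0; 2, 1, 0; 0, 0, 1] _ _ (by decide) (by decide)
def conj43 : Matrix.SpecialLinearGroup (Fin 3) (ZMod 3) := ⟨!![1, 2, 0; 2, 2, 1; 0, 1, 2], by decide⟩
theorem isConj_conj43 : IsConj x13 conj43 :=
  isConj_x13 !![0, 2, 0; 1, 2, 0; 0, 1, 1] _ _ (by decide) (by decide)
def conj44 : Matrix.SpecialLinearGroup (Fin 3) (ZMod 3) := ⟨!![1, 1, 1; 2, 1, 2; 1, 2, 0], by decide⟩
theorem isConj_conj44 : IsConj x13 conj44 :=
  isConj_x13 !![2, 2, 1; 2, 2, 0; 1, 0, 0] _ _ (by decide) (by decide)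
def conj45 : Matrix.SpecialLinearGroup (Fin 3) (ZMod 3) := ⟨!![1, 0, 2; 1, 2, 2; 0, 1, 2], by decide⟩
theorem isConj_conj45 : IsConj x13 conj45 :=
  isConj_x13 !![2, 2, 1; 1, 1, 0; 0, 1, 0] _ _ (by decide) (by decide)
def conj46 : Matrix.SpecialLinearGroup (Fin 3) (ZMod 3) := ⟨!![2, 0, 1; 2, 2, 0; 2, 2, 1], by decide⟩
theorem isConj_conj46 : IsConj x13 conj46 :=
  isConj_x13 !![0, 2, 0; 0, 0, 1; 2, 2, 0] _ _ (by decide) (by decide)
def conj47 : Matrix.SpecialLinearGroup (Fin 3) (ZMod 3) := ⟨!![1, 2, 1; 0, 0, 2; 1, 0, 1], by decide⟩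
theorem isConj_conj47 : IsConj x13 conj47 :=
  isConj_x13 !![0, 2, 1; 2, 2, 2; 1, 1, 0] _ _ (by decide) (by decide)
def conj48 : Matrix.SpecialLinearGroup (Fin 3) (ZMod 3) := ⟨!![0, 2, 1; 1, 0, 1; 1, 0, 2], by decide⟩
theorem isConj_conj48 : IsConj x13 conj48 :=
  isConj_x13 !![0, 1, 0; 2, 0, 1; 0, 0, 1] _ _ (by decide) (by decide)
def conj49 : Matrix.SpecialLinearGroup (Fin 3) (ZMod 3) := ⟨!![2, 1, 1; 1, 0, 1; 0, 2, 0], by decide⟩
theorem isConj_conj49 : IsConj x13 conj49 :=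
  isConj_x13 !![0, 1, 0; 0, 1, 1; 1, 0, 2] _ _ (by decide) (by decide)
def conj50 : Matrix.SpecialLinearGroup (Fin 3) (ZMod 3) := ⟨!![0, 1, 0; 2, 2, 2; 2, 2, 0], by decide⟩
theorem isConj_conj50 : IsConj x13 conj50 :=
  isConj_x13 !![1, 0, 0; 0, 0, 1; 2, 2, 0] _ _ (by decide) (by decide)
def conj51 : Matrix.SpecialLinearGroup (Fin 3) (ZMod 3) := ⟨!![1, 2, 2; 2, 1, 0; 0, 1, 0], by decide⟩
theorem isConj_conj51 : IsConj x13 conj51 :=
  isConj_x13 !![2, 0, 1; 2, 0, 0; 0, 2, 0] _ _ (by decide) (by decide)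
def conj52 : Matrix.SpecialLinearGroup (Fin 3) (ZMod 3) := ⟨!![1, 2, 2; 1, 0, 0; 1, 0, 1], by decide⟩
theorem isConj_conj52 : IsConj x13 conj52 :=
  isConj_x13 !![0, 2, 1; 0, 0, 2; 1, 1, 0] _ _ (by decide) (by decide)
def conj53 : Matrix.SpecialLinearGroup (Fin 3) (ZMod 3) := ⟨!![1, 1, 0; 1, 2, 1; 0, 1, 2], by decide⟩
theorem isConj_conj53 : IsConj x13 conj53 :=
  isConj_x13 !![2, 1, 2; 2, 1, 1; 1, 1, 0] _ _ (by decide) (by decide)
def conj54 : Matrix.SpecialLinearGroup (Fin 3) (ZMod 3) := ⟨!![1, 0, 2; 1, 2, 0; 1, 2, 2], by decide⟩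
theorem isConj_conj54 : IsConj x13 conj54 :=
  isConj_x13 !![0, 2, 0; 0, 0, 2; 1, 2, 0] _ _ (by decide) (by decide)
def conj55 : Matrix.SpecialLinearGroup (Fin 3) (ZMod 3) := ⟨!![1, 0, 2; 2, 0, 2; 0, 2, 1], by decide⟩
theorem isConj_conj55 : IsConj x13 conj55 :=
  isConj_x13 !![0, 2, 0; 2, 2, 2; 1, 2, 0] _ _ (by decide) (by decide)
def conj56 : Matrix.SpecialLinearGroup (Fin 3) (ZMod 3) := ⟨!![1, 0, 2; 2, 2, 1; 0, 2, 2], by decide⟩
theorem isConj_conj56 : IsConj x13 conj56 :=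
  isConj_x13 !![0, 2, 0; 0, 1, 2; 1, 2, 0] _ _ (by decide) (by decide)
def conj57 : Matrix.SpecialLinearGroup (Fin 3) (ZMod 3) := ⟨!![1, 2, 2; 2, 0, 0; 0, 2, 1], by decide⟩
theorem isConj_conj57 : IsConj x13 conj57 :=
  isConj_x13 !![1, 1, 0; 2, 2, 2; 1, 2, 0] _ _ (by decide) (by decide)
def conj58 : Matrix.SpecialLinearGroup (Fin 3) (ZMod 3) := ⟨!![1, 1, 1; 1, 0, 0; 0, 2, 1], by decide⟩
theorem isConj_conj58 : IsConj x13 conj58 :=
  isConj_x13 !![1, 1, 0; 1, 1, 1; 2, 1, 0] _ _ (by decide) (by decide)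
def conj59 : Matrix.SpecialLinearGroup (Fin 3) (ZMod 3) := ⟨!![2, 1, 2; 0, 0, 1; 2, 2, 0], by decide⟩
theorem isConj_conj59 : IsConj x13 conj59 :=
  isConj_x13 !![1, 0, 2; 1, 0, 1; 0, 1, 0] _ _ (by decide) (by decide)
def conj60 : Matrix.SpecialLinearGroup (Fin 3) (ZMod 3) := ⟨!![1, 2, 0; 2, 1, 2; 1, 0, 0], by decide⟩
theorem isConj_conj60 : IsConj x13 conj60 :=
  isConj_x13 !![1, 0, 0; 1, 0, 2; 0, 1, 0] _ _ (by decide) (by decide)
def conj61 : Matrix.SpecialLinearGroup (Fin 3) (ZMod 3) := ⟨!![0, 1, 0; 1, 2, 1; 1, 2, 0], by decide⟩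
theorem isConj_conj61 : IsConj x13 conj61 :=
  isConj_x13 !![2, 0, 0; 0, 0, 2; 1, 2, 0] _ _ (by decide) (by decide)
def conj62 : Matrix.SpecialLinearGroup (Fin 3) (ZMod 3) := ⟨!![0, 2, 0; 2, 2, 1; 2, 2, 0], by decide⟩
theorem isConj_conj62 : IsConj x13 conj62 :=
  isConj_x13 !![1, 1, 2; 2, 1, 1; 1, 0, 1] _ _ (by decide) (by decide)
def conj63 : Matrix.SpecialLinearGroup (Fin 3) (ZMod 3) := ⟨!![1, 2, 0; 1, 1, 1; 0, 2, 0], by decide⟩
theorem isConj_conj63 : IsConj x13 conj63 :=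
  isConj_x13 !![1, 1, 2; 0, 2, 0; 1, 0, 1] _ _ (by decide) (by decide)
def conj64 : Matrix.SpecialLinearGroup (Fin 3) (ZMod 3) := ⟨!![1, 1, 1; 0, 0, 1; 1, 0, 1], by decide⟩
theorem isConj_conj64 : IsConj x13 conj64 :=
  isConj_x13 !![0, 1, 0; 0, 1, 1; 1, 1, 2] _ _ (by decide) (by decide)
def conj65 : Matrix.SpecialLinearGroup (Fin 3) (ZMod 3) := ⟨!![0, 1, 2; 1, 0, 0; 1, 0, 2], by decide⟩
theorem isConj_conj65 : IsConj x13 conj65 :=
  isConj_x13 !![0, 2, 1; 0, 0, 2; 1, 2, 0] _ _ (by decide) (by decide)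
def conj66 : Matrix.SpecialLinearGroup (Fin 3) (ZMod 3) := ⟨!![0, 2, 2; 2, 1, 2; 2, 1, 1], by decide⟩
theorem isConj_conj66 : IsConj x13 conj66 :=
  isConj_x13 !![1, 1, 2; 0, 0, 1; 2, 1, 0] _ _ (by decide) (by decide)
def conj67 : Matrix.SpecialLinearGroup (Fin 3) (ZMod 3) := ⟨!![1, 1, 0; 1, 0, 2; 1, 0, 1], by decide⟩
theorem isConj_conj67 : IsConj x13 conj67 :=
  isConj_x13 !![1, 1, 1; 0, 0, 2; 1, 2, 0] _ _ (by decide) (by decide)
def conj68 : Matrix.SpecialLinearGroup (Fin 3) (ZMod 3) := ⟨!![2, 0, 1; 0, 0, 1; 2, 1, 0], by decide⟩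
theorem isConj_conj68 : IsConj x13 conj68 :=
  isConj_x13 !![0, 0, 1; 1, 0, 1; 0, 1, 0] _ _ (by decide) (by decide)
def conj69 : Matrix.SpecialLinearGroup (Fin 3) (ZMod 3) := ⟨!![1, 2, 1; 1, 2, 2; 1, 1, 2], by decide⟩
theorem isConj_conj69 : IsConj x13 conj69 :=
  isConj_x13 !![1, 2, 0; 2, 2, 0; 0, 0, 1] _ _ (by decide) (by decide)
def conj70 : Matrix.SpecialLinearGroup (Fin 3) (ZMod 3) := ⟨!![0, 1, 2; 1, 1, 2; 2, 1, 1], by decide⟩
theorem isConj_conj70 : IsConj x13 conj70 :=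
  isConj_x13 !![1, 1, 2; 1, 2, 0; 0, 0, 1] _ _ (by decide) (by decide)
def conj71 : Matrix.SpecialLinearGroup (Fin 3) (ZMod 3) := ⟨!![1, 2, 2; 2, 0, 1; 1, 1, 1], by decide⟩
theorem isConj_conj71 : IsConj x13 conj71 :=
  isConj_x13 !![0, 2, 0; 0, 1, 2; 1, 1, 1] _ _ (by decide) (by decide)
def conj72 : Matrix.SpecialLinearGroup (Fin 3) (ZMod 3) := ⟨!![0, 2, 1; 2, 0, 0; 2, 0, 2], by decide⟩
theorem isConj_conj72 : IsConj x13 conj72 :=
  isConj_x13 !![2, 2, 0; 1, 1, 1; 0, 1, 0] _ _ (by decide) (by decide)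
def conj73 : Matrix.SpecialLinearGroup (Fin 3) (ZMod 3) := ⟨!![1, 2, 2; 1, 2, 0; 0, 2, 2], by decide⟩
theorem isConj_conj73 : IsConj x13 conj73 :=
  isConj_x13 !![2, 2, 0; 0, 2, 0; 0, 0, 1] _ _ (by decide) (by decide)
def conj74 : Matrix.SpecialLinearGroup (Fin 3) (ZMod 3) := ⟨!![1, 2, 0; 0, 0, 1; 1, 1, 1], by decide⟩
theorem isConj_conj74 : IsConj x13 conj74 :=
  isConj_x13 !![0, 0, 2; 0, 1, 1; 1, 1, 2] _ _ (by decide) (by decide)
def conj75 : Matrix.SpecialLinearGroup (Fin 3) (ZMod 3) := ⟨!![0, 2, 2; 2, 1, 1; 2, 2, 1], by decide⟩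
theorem isConj_conj75 : IsConj x13 conj75 :=
  isConj_x13 !![1, 1, 0; 1, 1, 2; 1, 2, 0] _ _ (by decide) (by decide)
def conj76 : Matrix.SpecialLinearGroup (Fin 3) (ZMod 3) := ⟨!![1, 1, 1; 2, 2, 1; 1, 2, 2], by decide⟩
theorem isConj_conj76 : IsConj x13 conj76 :=
  isConj_x13 !![1, 1, 1; 0, 2, 1; 0, 1, 1] _ _ (by decide) (by decide)
def conj77 : Matrix.SpecialLinearGroup (Fin 3) (ZMod 3) := ⟨!![1, 0, 1; 1, 2, 1; 0, 2, 2], by decide⟩
theorem isConj_conj77 : IsConj x13 conj77 :=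
  isConj_x13 !![1, 1, 2; 2, 2, 0; 0, 1, 0] _ _ (by decide) (by decide)
def conj78 : Matrix.SpecialLinearGroup (Fin 3) (ZMod 3) := ⟨!![1, 2, 1; 2, 1, 0; 0, 2, 0], by decide⟩
theorem isConj_conj78 : IsConj x13 conj78 :=
  isConj_x13 !![1, 0, 0; 2, 1, 1; 1, 1, 2] _ _ (by decide) (by decide)
def conj79 : Matrix.SpecialLinearGroup (Fin 3) (ZMod 3) := ⟨!![1, 2, 1; 1, 1, 1; 1, 1, 0], by decide⟩
theorem isConj_conj79 : IsConj x13 conj79 :=
  isConj_x13 !![1, 2, 0; 1, 1, 2; 2, 2, 0] _ _ (by decide) (by decide)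
theorem covered0 : Covered !![0, 0, 1; 1, 0, 0; 0, 1, 0] :=
  ⟨conj0, conj1, isConj_conj0, isConj_conj1, by decide⟩
theorem covered1 : Covered !![0, 0, 1; 1, 0, 0; 0, 1, 1] :=
  ⟨conj2, conj3, isConj_conj2, isConj_conj3, by decide⟩
theorem covered2 : Covered !![0, 0, 1; 1, 0, 0; 0, 1, 2] :=
  ⟨conj4, conj5, isConj_conj4, isConj_conj5, by decide⟩
theorem covered3 : Covered !![0, 0, 1; 1, 0, 1; 0, 1, 0] :=
  ⟨conj6, conj7, isConj_conj6, isConj_conj7, by decide⟩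
theorem covered4 : Covered !![0, 0, 1; 1, 0, 1; 0, 1, 1] :=
  ⟨conj8, conj9, isConj_conj8, isConj_conj9, by decide⟩
theorem covered5 : Covered !![0, 0, 1; 1, 0, 1; 0, 1, 2] :=
  ⟨conj10, conj11, isConj_conj10, isConj_conj11, by decide⟩
theorem covered6 : Covered !![0, 0, 1; 1, 0, 2; 0, 1, 0] :=
  ⟨conj12, conj13, isConj_conj12, isConj_conj13, by decide⟩
theorem covered7 : Covered !![0, 0, 1; 1, 0, 2; 0, 1, 1] :=
  ⟨conj14, conj15, isConj_conj14, isConj_conj15, by decide⟩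
theorem covered8 : Covered !![0, 0, 1; 1, 0, 2; 0, 1, 2] :=
  ⟨conj16, conj17, isConj_conj16, isConj_conj17, by decide⟩
theorem covered9 : Covered !![0, 1, 0; 1, 0, 0; 0, 0, 2] :=
  ⟨conj18, conj19, isConj_conj18, isConj_conj19, by decide⟩
theorem covered10 : Covered !![0, 1, 0; 1, 0, 1; 0, 0, 2] :=
  ⟨conj14, conj20, isConj_conj14, isConj_conj20, by decide⟩
theorem covered11 : Covered !![0, 1, 0; 1, 0, 2; 0, 0, 2] :=
  ⟨conj21, conj22, isConj_conj21, isConj_conj22, by decide⟩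
theorem covered12 : Covered !![0, 1, 1; 1, 0, 0; 0, 0, 2] :=
  ⟨conj23, conj24, isConj_conj23, isConj_conj24, by decide⟩
theorem covered13 : Covered !![0, 1, 1; 1, 0, 1; 0, 0, 2] :=
  ⟨conj25, conj26, isConj_conj25, isConj_conj26, by decide⟩
theorem covered14 : Covered !![0, 1, 1; 1, 0, 2; 0, 0, 2] :=
  ⟨conj27, conj28, isConj_conj27, isConj_conj28, by decide⟩
theorem covered15 : Covered !![0, 1, 2; 1, 0, 0; 0, 0, 2] :=
  ⟨conj29, conj30, isConj_conj29, isConj_conj30, by decide⟩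
theorem covered16 : Covered !![0, 1, 2; 1, 0, 1; 0, 0, 2] :=
  ⟨conj0, conj31, isConj_conj0, isConj_conj31, by decide⟩
theorem covered17 : Covered !![0, 1, 2; 1, 0, 2; 0, 0, 2] :=
  ⟨conj32, conj33, isConj_conj32, isConj_conj33, by decide⟩
theorem covered18 : Covered !![0, 1, 0; 1, 1, 0; 0, 0, 2] :=
  ⟨conj34, conj35, isConj_conj34, isConj_conj35, by decide⟩
theorem covered19 : Covered !![0, 1, 0; 1, 1, 1; 0, 0, 2] :=
  ⟨conj0, conj9, isConj_conj0, isConj_conj9, by decide⟩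
theorem covered20 : Covered !![0, 1, 0; 1, 1, 2; 0, 0, 2] :=
  ⟨conj23, conj36, isConj_conj23, isConj_conj36, by decide⟩
theorem covered21 : Covered !![0, 1, 1; 1, 1, 0; 0, 0, 2] :=
  ⟨conj32, conj37, isConj_conj32, isConj_conj37, by decide⟩
theorem covered22 : Covered !![0, 1, 1; 1, 1, 1; 0, 0, 2] :=
  ⟨conj38, conj22, isConj_conj38, isConj_conj22, by decide⟩
theorem covered23 : Covered !![0, 1, 1; 1, 1, 2; 0, 0, 2] :=
  ⟨conj39, conj40, isConj_conj39, isConj_conj40, by decide⟩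
theorem covered24 : Covered !![0, 1, 2; 1, 1, 0; 0, 0, 2] :=
  ⟨conj6, conj41, isConj_conj6, isConj_conj41, by decide⟩
theorem covered25 : Covered !![0, 1, 2; 1, 1, 1; 0, 0, 2] :=
  ⟨conj42, conj43, isConj_conj42, isConj_conj43, by decide⟩
theorem covered26 : Covered !![0, 1, 2; 1, 1, 2; 0, 0, 2] :=
  ⟨conj18, conj44, isConj_conj18, isConj_conj44, by decide⟩
theorem covered27 : Covered !![0, 1, 0; 1, 2, 0; 0, 0, 2] :=
  ⟨conj45, conj46, isConj_conj45, isConj_conj46, by decide⟩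
theorem covered28 : Covered !![0, 1, 0; 1, 2, 1; 0, 0, 2] :=
  ⟨conj32, conj47, isConj_conj32, isConj_conj47, by decide⟩
theorem covered29 : Covered !![0, 1, 0; 1, 2, 2; 0, 0, 2] :=
  ⟨conj39, conj48, isConj_conj39, isConj_conj48, by decide⟩
theorem covered30 : Covered !![0, 1, 1; 1, 2, 0; 0, 0, 2] :=
  ⟨conj34, conj49, isConj_conj34, isConj_conj49, by decide⟩
theorem covered31 : Covered !![0, 1, 1; 1, 2, 1; 0, 0, 2] :=
  ⟨conj0, conj50, isConj_conj0, isConj_conj50, by decide⟩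
theorem covered32 : Covered !![0, 1, 1; 1, 2, 2; 0, 0, 2] :=
  ⟨conj10, conj51, isConj_conj10, isConj_conj51, by decide⟩
theorem covered33 : Covered !![0, 1, 2; 1, 2, 0; 0, 0, 2] :=
  ⟨conj14, conj1, isConj_conj14, isConj_conj1, by decide⟩
theorem covered34 : Covered !![0, 1, 2; 1, 2, 1; 0, 0, 2] :=
  ⟨conj25, conj52, isConj_conj25, isConj_conj52, by decide⟩
theorem covered35 : Covered !![0, 1, 2; 1, 2, 2; 0, 0, 2] :=
  ⟨conj23, conj53, isConj_conj23, isConj_conj53, by decide⟩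
theorem covered36 : Covered !![0, 2, 0; 1, 0, 0; 0, 0, 1] :=
  ⟨conj25, conj54, isConj_conj25, isConj_conj54, by decide⟩
theorem covered37 : Covered !![0, 2, 0; 1, 0, 1; 0, 0, 1] :=
  ⟨conj38, conj4, isConj_conj38, isConj_conj4, by decide⟩
theorem covered38 : Covered !![0, 2, 0; 1, 0, 2; 0, 0, 1] :=
  ⟨conj10, conj55, isConj_conj10, isConj_conj55, by decide⟩
theorem covered39 : Covered !![0, 2, 1; 1, 0, 0; 0, 0, 1] :=
  ⟨conj6, conj56, isConj_conj6, isConj_conj56, by decide⟩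
theorem covered40 : Covered !![0, 2, 1; 1, 0, 1; 0, 0, 1] :=
  ⟨conj42, conj57, isConj_conj42, isConj_conj57, by decide⟩
theorem covered41 : Covered !![0, 2, 1; 1, 0, 2; 0, 0, 1] :=
  ⟨conj23, conj58, isConj_conj23, isConj_conj58, by decide⟩
theorem covered42 : Covered !![0, 2, 2; 1, 0, 0; 0, 0, 1] :=
  ⟨conj59, conj60, isConj_conj59, isConj_conj60, by decide⟩
theorem covered43 : Covered !![0, 2, 2; 1, 0, 1; 0, 0, 1] :=
  ⟨conj39, conj61, isConj_conj39, isConj_conj61, by decide⟩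
theorem covered44 : Covered !![0, 2, 2; 1, 0, 2; 0, 0, 1] :=
  ⟨conj0, conj62, isConj_conj0, isConj_conj62, by decide⟩
theorem covered45 : Covered !![0, 2, 0; 1, 1, 0; 0, 0, 1] :=
  ⟨conj23, conj63, isConj_conj23, isConj_conj63, by decide⟩
theorem covered46 : Covered !![0, 2, 0; 1, 1, 1; 0, 0, 1] :=
  ⟨conj32, conj64, isConj_conj32, isConj_conj64, by decide⟩
theorem covered47 : Covered !![0, 2, 0; 1, 1, 2; 0, 0, 1] :=
  ⟨conj39, conj65, isConj_conj39, isConj_conj65, by decide⟩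
theorem covered48 : Covered !![0, 2, 1; 1, 1, 0; 0, 0, 1] :=
  ⟨conj0, conj66, isConj_conj0, isConj_conj66, by decide⟩
theorem covered49 : Covered !![0, 2, 1; 1, 1, 1; 0, 0, 1] :=
  ⟨conj25, conj67, isConj_conj25, isConj_conj67, by decide⟩
theorem covered50 : Covered !![0, 2, 1; 1, 1, 2; 0, 0, 1] :=
  ⟨conj68, conj69, isConj_conj68, isConj_conj69, by decide⟩
theorem covered51 : Covered !![0, 2, 2; 1, 1, 0; 0, 0, 1] :=
  ⟨conj42, conj56, isConj_conj42, isConj_conj56, by decide⟩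
theorem covered52 : Covered !![0, 2, 2; 1, 1, 1; 0, 0, 1] :=
  ⟨conj2, conj70, isConj_conj2, isConj_conj70, by decide⟩
theorem covered53 : Covered !![0, 2, 2; 1, 1, 2; 0, 0, 1] :=
  ⟨conj12, conj71, isConj_conj12, isConj_conj71, by decide⟩
theorem covered54 : Covered !![0, 2, 0; 1, 2, 0; 0, 0, 1] :=
  ⟨conj2, conj17, isConj_conj2, isConj_conj17, by decide⟩
theorem covered55 : Covered !![0, 2, 0; 1, 2, 1; 0, 0, 1] :=
  ⟨conj0, conj72, isConj_conj0, isConj_conj72, by decide⟩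
theorem covered56 : Covered !![0, 2, 0; 1, 2, 2; 0, 0, 1] :=
  ⟨conj21, conj73, isConj_conj21, isConj_conj73, by decide⟩
theorem covered57 : Covered !![0, 2, 1; 1, 2, 0; 0, 0, 1] :=
  ⟨conj32, conj74, isConj_conj32, isConj_conj74, by decide⟩
theorem covered58 : Covered !![0, 2, 1; 1, 2, 1; 0, 0, 1] :=
  ⟨conj14, conj75, isConj_conj14, isConj_conj75, by decide⟩
theorem covered59 : Covered !![0, 2, 1; 1, 2, 2; 0, 0, 1] :=
  ⟨conj59, conj76, isConj_conj59, isConj_conj76, by decide⟩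
theorem covered60 : Covered !![0, 2, 2; 1, 2, 0; 0, 0, 1] :=
  ⟨conj23, conj77, isConj_conj23, isConj_conj77, by decide⟩
theorem covered61 : Covered !![0, 2, 2; 1, 2, 1; 0, 0, 1] :=
  ⟨conj10, conj78, isConj_conj10, isConj_conj78, by decide⟩
theorem covered62 : Covered !![0, 2, 2; 1, 2, 2; 0, 0, 1] :=
  ⟨conj25, conj79, isConj_conj25, isConj_conj79, by decide⟩

end CfsgLib.SL3
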