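import Mathlib
import Cfsg.Agent.Lib.SL3.Cert

/-!
Every non-scalar element of SL₃ is a product of two conjugates of a fixed semisimple element
(Sourour's factorisation in dimension 3).
-/

set_option autoImplicit false

namespace CfsgLib.SL3

open Matrix

variable {F : Type*} [Field F]

/-- `g` is not scalar. -/
def NonScalar (g : Matrix (Fin 3) (Fin 3) F) : Prop :=
  ¬ (g 0 1 = 0 ∧ g 0 2 = 0 ∧ g 1 0 = 0 ∧ g 1 2 = 0 ∧ g 2 0 = 0 ∧ g 2 1 = 0 ∧
      g 0 0 = g 1 1 ∧ g 1 1 = g 2 2)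

/-- A basis in which the first column is `(d, 1, 0)`. -/
theorem exists_firstCol (g : Matrix (Fin 3) (Fin 3) F) (hg : NonScalar g) (d : F) :
    ∃ P : GL (Fin 3) F, ∃ A : Matrix (Fin 3) (Fin 3) F,
      g * P.1 = P.1 * A ∧ A 0 0 = d ∧ A 1 0 = 1 ∧ A 2 0 = 0 := by
  have key : ∀ v f : Fin 3 → F,
      (Matrix.of fun i j => (![v, g *ᵥ v - d • v, f] : Fin 3 → Fin 3 → F) j i).det ≠ 0 →
      ∃ P : GL (Fin 3) F, ∃ A : Matrix (Fin 3) (Fin 3) F,
        g * P.1 = P.1 * A ∧ A 0 0 = d ∧ A 1 0 = 1 ∧ A 2 0 = 0 := by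
    intro v f hdet
    set Q : Matrix (Fin 3) (Fin 3) F :=
      Matrix.of fun i j => (![v, g *ᵥ v - d • v, f] : Fin 3 → Fin 3 → F) j i with hQ
    let P := GeneralLinearGroup.mkOfDetNeZero Q hdet
    have hP : P.1 = Q := rfl
    have hcol : g *ᵥ v = Q *ᵥ ![d, 1, 0] := by
      funext i
      simp [hQ, Matrix.mulVec, dotProduct, Fin.sum_univ_three]
      ring
    refine ⟨P, (P⁻¹ : GL (Fin 3) F).1 * (g * Q), ?_, ?_⟩
    · rw [hP, ← mul_assoc Q, ← hP, ← Units.val_mul, mul_inv_cancel, Units.val_one, one_mul]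
    have h0 : ∀ i, ((P⁻¹ : GL (Fin 3) F).1 * (g * Q)) i 0 = ![d, 1, (0 : F)] i := by
      intro i
      have h1 : (fun k => (g * Q) k 0) = g *ᵥ v := by
        funext k
        simp [hQ, Matrix.mul_apply, Matrix.mulVec, dotProduct]
      show ((P⁻¹ : GL (Fin 3) F).1 *ᵥ fun k => (g * Q) k 0) i = _
      rw [h1, hcol, mulVec_mulVec, ← hP, ← Units.val_mul, inv_mul_cancel, Units.val_one,
        one_mulVec]
    exact ⟨h0 0, h0 1, h0 2⟩
  by_contra hno
  apply hg
  have hz : ∀ v f : Fin 3 → F,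
      (Matrix.of fun i j => (![v, g *ᵥ v - d • v, f] : Fin 3 → Fin 3 → F) j i).det = 0 :=
    fun v f => by_contra fun h => hno (key v f h)
  have a1 := hz ![1, 0, 0] ![0, 0, 1]
  have a2 := hz ![1, 0, 0] ![0, 1, 0]
  have a3 := hz ![0, 1, 0] ![0, 0, 1]
  have a4 := hz ![0, 1, 0] ![1, 0, 0]
  have a5 := hz ![0, 0, 1] ![0, 1, 0]
  have a6 := hz ![0, 0, 1] ![1, 0, 0]
  have a7 := hz ![1, 1, 0] ![0, 0, 1]
  have a8 := hz ![0, 1, 1] ![1, 0, 0]
  have hmv : ∀ v : Fin 3 → F, g *ᵥ v = ![g 0 0 * v 0 + g 0 1 * v 1 + g 0 2 * v 2,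
      g 1 0 * v 0 + g 1 1 * v 1 + g 1 2 * v 2, g 2 0 * v 0 + g 2 1 * v 1 + g 2 2 * v 2] := by
    intro v
    funext i
    fin_cases i <;> simp [Matrix.mulVec, dotProduct, Fin.sum_univ_three]
  rw [hmv] at a1 a2 a3 a4 a5 a6 a7 a8
  simp [det_fin_three] at a1 a2 a3 a4 a5 a6 a7 a8
  refine ⟨a3, a5, a1, a6, a2, a4, ?_, ?_⟩
  · linear_combination a1 - a3 - a7
  · linear_combination a4 - a6 - a8

/-- Adjusting the second leading minor. -/
theorem exists_minor (A : Matrix (Fin 3) (Fin 3) F) (hdet : A.det ≠ 0) (d M : F)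
    (h00 : A 0 0 = d) (h10 : A 1 0 = 1) (h20 : A 2 0 = 0) :
    ∃ P : GL (Fin 3) F, ∃ A' : Matrix (Fin 3) (Fin 3) F,
      A * P.1 = P.1 * A' ∧ A' 0 0 = d ∧ A' 0 0 * A' 1 1 - A' 0 1 * A' 1 0 = M := by
  have key : ∀ s t : F,
      (d * A 1 1 - A 0 1) + A 2 1 * t +
        s * (d * (A 1 2 + t) - (A 0 2 + t * (d - A 2 2))) - s ^ 2 * (0 : F) = M →
      (A 2 1 = 0 ∨ s = 0) →
      ∃ P : GL (Fin 3) F, ∃ A' : Matrix (Fin 3) (Fin 3) F,
        A * P.1 = P.1 * A' ∧ A' 0 0 = d ∧ A' 0 0 * A' 1 1 - A' 0 1 * A' 1 0 = M := by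
    intro s t he hs
    set Q : Matrix (Fin 3) (Fin 3) F := !![1, s * t, t; 0, 1, 0; 0, s, 1] with hQ
    set Q' : Matrix (Fin 3) (Fin 3) F := !![1, 0, -t; 0, 1, 0; 0, -s, 1] with hQ'
    have h1 : Q * Q' = 1 := by
      ext i j
      fin_cases i <;> fin_cases j <;> simp [hQ, hQ', Matrix.mul_apply, Fin.sum_univ_three] <;> ring
    have h2 : Q' * Q = 1 := by
      ext i j
      fin_cases i <;> fin_cases j <;> simp [hQ, hQ', Matrix.mul_apply, Fin.sum_univ_three] <;> ring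
    refine ⟨⟨Q, Q', h1, h2⟩, Q' * (A * Q), ?_, ?_, ?_⟩
    · show A * Q = Q * (Q' * (A * Q))
      rw [← mul_assoc Q, h1, one_mul]
    · simp [hQ, hQ', Matrix.mul_apply, Fin.sum_univ_three, h00, h20]
    · simp [hQ, hQ', Matrix.mul_apply, Fin.sum_univ_three, h00, h10, h20]
      rcases hs with hs | hs
      · rw [hs] at he ⊢
        linear_combination he
      · rw [hs] at he ⊢
        linear_combination he
  by_cases hz : A 2 1 = 0
  · have hw : A 2 2 ≠ 0 := by
      intro hw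
      apply hdet
      rw [det_fin_three, h00, h10, h20, hz, hw]
      ring
    by_cases hr : d * A 1 2 - A 0 2 = 0
    · refine key ((M - (d * A 1 1 - A 0 1)) / A 2 2) 1 ?_ (Or.inl hz)
      field_simp
      rw [hz]
      linear_combination (A 2 2 * (M - (d * A 1 1 - A 0 1))) * hr
    · refine key ((M - (d * A 1 1 - A 0 1)) / (d * A 1 2 - A 0 2)) 0 ?_ (Or.inl hz)
      field_simp
      rw [hz]
      ring
  · refine key 0 ((M - (d * A 1 1 - A 0 1)) / A 2 1) ?_ (Or.inr rfl)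
    field_simp
    ring

/-- A triangular 3×3 matrix with distinct diagonal is a conjugate of the diagonal. -/
theorem lower_conj (a b c l21 l31 l32 : F) (hab : a ≠ b) (hac : a ≠ c) (hbc : b ≠ c) :
    ∃ V : Matrix (Fin 3) (Fin 3) F, V.det = 1 ∧
      !![a, 0, 0; l21, b, 0; l31, l32, c] * V = V * diagonal ![a, b, c] := by
  have h1 : a - b ≠ 0 := sub_ne_zero.2 hab
  have h2 : a - c ≠ 0 := sub_ne_zero.2 hac
  have h3 : b - c ≠ 0 := sub_ne_zero.2 hbc
  refine ⟨!![1, 0, 0; l21 / (a - b), 1, 0;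
    (l31 + l32 * (l21 / (a - b))) / (a - c), l32 / (b - c), 1], by simp [det_fin_three], ?_⟩
  ext i j
  fin_cases i <;> fin_cases j <;>
    simp [Matrix.mul_apply, Fin.sum_univ_three, Matrix.diagonal] <;> field_simp <;> ring

theorem upper_conj (a b c u12 u13 u23 : F) (hab : a ≠ b) (hac : a ≠ c) (hbc : b ≠ c) :
    ∃ V : Matrix (Fin 3) (Fin 3) F, V.det = 1 ∧
      !![a, u12, u13; 0, b, u23; 0, 0, c] * V = V * diagonal ![a, b, c] := by
  have h1 : b - a ≠ 0 := sub_ne_zero.2 hab.symm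
  have h2 : c - a ≠ 0 := sub_ne_zero.2 hac.symm
  have h3 : c - b ≠ 0 := sub_ne_zero.2 hbc.symm
  refine ⟨!![1, u12 / (b - a), (u13 + u12 * (u23 / (c - b))) / (c - a);
    0, 1, u23 / (c - b); 0, 0, 1], by simp [det_fin_three], ?_⟩
  ext i j
  fin_cases i <;> fin_cases j <;>
    simp [Matrix.mul_apply, Fin.sum_univ_three, Matrix.diagonal] <;> field_simp <;> ring

theorem lu_factor (A : Matrix (Fin 3) (Fin 3) F) (a b c : F) (ha : a ≠ 0) (hb : b ≠ 0) (hc : c ≠ 0)
    (h1 : A 0 0 = a ^ 2) (h2 : A 0 0 * A 1 1 - A 0 1 * A 1 0 = a ^ 2 * b ^ 2)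
    (h3 : A.det = a ^ 2 * b ^ 2 * c ^ 2) :
    ∃ l21 l31 l32 u12 u13 u23 : F,
      A = !![a, 0, 0; l21, b, 0; l31, l32, c] * !![a, u12, u13; 0, b, u23; 0, 0, c] := by
  refine ⟨A 1 0 / a, A 2 0 / a, (A 2 1 - A 2 0 / a * (A 0 1 / a)) / b, A 0 1 / a, A 0 2 / a,
    (A 1 2 - A 1 0 / a * (A 0 2 / a)) / b, ?_⟩
  rw [det_fin_three] at h3
  rw [h1] at h2 h3
  ext i j
  fin_cases i <;> fin_cases j <;> simp [Matrix.mul_apply, Fin.sum_univ_three] <;> field_simp <;>
    try ring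
  · linear_combination h1
  · linear_combination h2
  · linear_combination a ^ 2 * h3 + (A 2 0 * A 0 2 - a ^ 2 * A 2 2) * h2

/-- A matrix that is similar to `diag (a, b, c)` by any invertible matrix is conjugate to it in SL₃. -/
theorem conj_in_sl (D : SpecialLinearGroup (Fin 3) F) (v : Fin 3 → F) (hD : D.1 = diagonal v)
    (B W : Matrix (Fin 3) (Fin 3) F) (hW : W.det ≠ 0) (h : B * W = W * D.1) :
    ∃ u : SpecialLinearGroup (Fin 3) F, (u * D * u⁻¹).1 = B := by
  set T : Matrix (Fin 3) (Fin 3) F := diagonal ![W.det⁻¹, 1, 1] with hT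
  have hTd : T.det = W.det⁻¹ := by rw [hT, det_diagonal, Fin.prod_univ_three]; simp
  have hcomm : T * D.1 = D.1 * T := by
    rw [hT, hD, diagonal_mul_diagonal, diagonal_mul_diagonal]
    congr 1
    funext i
    ring
  let u : SpecialLinearGroup (Fin 3) F := ⟨W * T, by rw [det_mul, hTd, mul_inv_cancel₀ hW]⟩
  refine ⟨u, ?_⟩
  have h' : B * u.1 = (u * D).1 := by
    show B * (W * T) = W * T * D.1
    rw [← mul_assoc, h, mul_assoc, mul_assoc, hcomm]
  show (u * D).1 * (u⁻¹ : SpecialLinearGroup (Fin 3) F).1 = B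
  rw [← h', mul_assoc]
  have : u.1 * (u⁻¹ : SpecialLinearGroup (Fin 3) F).1 = 1 := congrArg Subtype.val (mul_inv_cancel u)
  rw [this, mul_one]

/-- Sourour in dimension 3. -/
theorem exists_product_of_conj (a b c : F) (habc : a * b * c = 1) (hab : a ≠ b) (hac : a ≠ c)
    (hbc : b ≠ c) (D : SpecialLinearGroup (Fin 3) F) (hD : D.1 = diagonal ![a, b, c])
    (g : SpecialLinearGroup (Fin 3) F) (hg : NonScalar g.1) :
    ∃ u v : SpecialLinearGroup (Fin 3) F, g = (u * D * u⁻¹) * (v * D * v⁻¹) := by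
  have ha : a ≠ 0 := by rintro rfl; simp at habc
  have hb : b ≠ 0 := by rintro rfl; simp at habc
  have hc : c ≠ 0 := by rintro rfl; simp at habc
  obtain ⟨P, A, hA, hA0, hA1, hA2⟩ := exists_firstCol g.1 hg (a ^ 2)
  have hPdet : P.1.det ≠ 0 := GeneralLinearGroup.det_ne_zero P
  have hAdet : A.det = 1 := by
    have := congrArg Matrix.det hA
    rw [det_mul, det_mul, g.2, one_mul] at this
    exact (mul_eq_left₀ hPdet).1 this.symm
  obtain ⟨Q, A', hA', hA'0, hA'M⟩ :=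
    exists_minor A (by rw [hAdet]; exact one_ne_zero) (a ^ 2) (a ^ 2 * b ^ 2) hA0 hA1 hA2
  have hQdet : Q.1.det ≠ 0 := GeneralLinearGroup.det_ne_zero Q
  have hA'det : A'.det = 1 := by
    have := congrArg Matrix.det hA'
    rw [det_mul, det_mul, hAdet, one_mul] at this
    exact (mul_eq_left₀ hQdet).1 this.symm
  obtain ⟨l21, l31, l32, u12, u13, u23, hLU⟩ :=
    lu_factor A' a b c ha hb hc hA'0 hA'M
      (by rw [hA'det]; linear_combination (-(a * b * c) - 1) * habc)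
  obtain ⟨V, hV, hVL⟩ := lower_conj a b c l21 l31 l32 hab hac hbc
  obtain ⟨V', hV', hVU⟩ := upper_conj a b c u12 u13 u23 hab hac hbc
  set R : GL (Fin 3) F := P * Q with hR
  set L : Matrix (Fin 3) (Fin 3) F := !![a, 0, 0; l21, b, 0; l31, l32, c] with hL
  set U : Matrix (Fin 3) (Fin 3) F := !![a, u12, u13; 0, b, u23; 0, 0, c] with hU
  have hgR : g.1 * R.1 = R.1 * A' := by
    rw [hR, Units.val_mul, ← mul_assoc, hA, mul_assoc, hA', mul_assoc]
  have hinv : (R⁻¹ : GL (Fin 3) F).1 * R.1 = 1 := by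
    rw [← Units.val_mul, inv_mul_cancel, Units.val_one]
  have hinv' : R.1 * (R⁻¹ : GL (Fin 3) F).1 = 1 := by
    rw [← Units.val_mul, mul_inv_cancel, Units.val_one]
  have hRdet : R.1.det ≠ 0 := GeneralLinearGroup.det_ne_zero R
  have step : ∀ X W : Matrix (Fin 3) (Fin 3) F, W.det = 1 → X * W = W * diagonal ![a, b, c] →
      ∃ u : SpecialLinearGroup (Fin 3) F,
        (u * D * u⁻¹).1 = R.1 * X * (R⁻¹ : GL (Fin 3) F).1 := by
    intro X W hW hXW
    refine conj_in_sl D _ hD _ (R.1 * W) (by rw [det_mul, hW, mul_one]; exact hRdet) ?_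
    rw [hD, mul_assoc (R.1 * X), ← mul_assoc _ R.1 W, hinv, one_mul, mul_assoc, hXW, mul_assoc]
  obtain ⟨u, hu⟩ := step L V hV hVL
  obtain ⟨v, hv⟩ := step U V' hV' hVU
  refine ⟨u, v, Subtype.ext ?_⟩
  show g.1 = (u * D * u⁻¹).1 * (v * D * v⁻¹).1
  rw [hu, hv]
  have : R.1 * L * (R⁻¹ : GL (Fin 3) F).1 * (R.1 * U * (R⁻¹ : GL (Fin 3) F).1)
      = R.1 * (L * U) * (R⁻¹ : GL (Fin 3) F).1 := by
    simp only [mul_assoc]
    rw [← mul_assoc ((R⁻¹ : GL (Fin 3) F).1) R.1, hinv, one_mul]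
  rw [this, ← hLU, ← hgR, mul_assoc, hinv', mul_one]

theorem covered_of_firstCol (A : Matrix (Fin 3) (Fin 3) (ZMod 3)) (hdet : A.det = 1)
    (h00 : A 0 0 = 0) (h10 : A 1 0 = 1) (h20 : A 2 0 = 0) :
    ∃ P : GL (Fin 3) (ZMod 3), ∃ A' : Matrix (Fin 3) (Fin 3) (ZMod 3),
      A * P.1 = P.1 * A' ∧ Covered A' := by
  by_cases hz : A 2 1 = 0
  · refine ⟨1, A, by simp, ?_⟩
    have hA : A = !![0, A 0 1, A 0 2; 1, A 1 1, A 1 2; 0, 0, A 2 2] := by
      ext i j
      fin_cases i <;> fin_cases j <;> simp [h00, h10, h20, hz]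
    rw [det_fin_three, h00, h10, h20, hz] at hdet
    rw [hA]
    generalize A 0 1 = x, A 0 2 = r, A 1 1 = y, A 1 2 = s, A 2 2 = w at hdet ⊢
    revert hdet
    fin_cases x <;> fin_cases r <;> fin_cases y <;> fin_cases s <;> fin_cases w <;>
      first
        | (intro h; exact absurd h (by decide))
        | (intro _; assumption)
        | (intro _; apply_rules [covered0, covered9, covered10, covered11, covered12, covered13,
            covered14, covered15, covered16, covered17, covered18, covered19, covered20, covered21,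
            covered22, covered23, covered24, covered25, covered26, covered27, covered28, covered29,
            covered30, covered31, covered32, covered33, covered34, covered35, covered36, covered37,
            covered38, covered39, covered40, covered41, covered42, covered43, covered44, covered45,
            covered46, covered47, covered48, covered49, covered50, covered51, covered52, covered53,
            covered54, covered55, covered56, covered57, covered58, covered59, covered60, covered61,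
            covered62])
  · set Q : Matrix (Fin 3) (Fin 3) (ZMod 3) := !![1, 0, A 0 1; 0, 1, A 1 1; 0, 0, A 2 1] with hQ
    have hQdet : Q.det ≠ 0 := by simp [hQ, det_fin_three, hz]
    let P := GeneralLinearGroup.mkOfDetNeZero Q hQdet
    set A' := (P⁻¹ : GL (Fin 3) (ZMod 3)).1 * (A * Q) with hA'
    have hinv : (P⁻¹ : GL (Fin 3) (ZMod 3)).1 * Q = 1 := by
      show (P⁻¹ : GL (Fin 3) (ZMod 3)).1 * P.1 = 1
      rw [← Units.val_mul, inv_mul_cancel, Units.val_one]
    have hPA : A * P.1 = P.1 * A' := by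
      show A * P.1 = P.1 * ((P⁻¹ : GL (Fin 3) (ZMod 3)).1 * (A * P.1))
      rw [← mul_assoc P.1, ← Units.val_mul, mul_inv_cancel, Units.val_one, one_mul]
    refine ⟨P, A', hPA, ?_⟩
    have hAQ : ∀ i, (A * Q) i 0 = Q i 1 ∧ (A * Q) i 1 = Q i 2 := by
      intro i
      fin_cases i <;> simp [hQ, Matrix.mul_apply, Fin.sum_univ_three, h00, h10, h20]
    have hA'01 : ∀ i, A' i 0 = (1 : Matrix (Fin 3) (Fin 3) (ZMod 3)) i 1 ∧
        A' i 1 = (1 : Matrix (Fin 3) (Fin 3) (ZMod 3)) i 2 := by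
      intro i
      constructor
      · rw [hA', ← hinv, Matrix.mul_apply, Matrix.mul_apply]
        exact Finset.sum_congr rfl fun k _ => by rw [(hAQ k).1]
      · rw [hA', ← hinv, Matrix.mul_apply, Matrix.mul_apply]
        exact Finset.sum_congr rfl fun k _ => by rw [(hAQ k).2]
    have hA'det : A'.det = 1 := by
      have := congrArg Matrix.det hPA
      rw [det_mul, det_mul, hdet, one_mul] at this
      exact (mul_eq_left₀ (GeneralLinearGroup.det_ne_zero P)).1 this.symm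
    have hA'eq : A' = !![0, 0, A' 0 2; 1, 0, A' 1 2; 0, 1, A' 2 2] := by
      ext i j
      fin_cases i <;> fin_cases j <;> simp [(hA'01 _).1, (hA'01 _).2, Matrix.one_apply]
    rw [hA'eq] at hA'det ⊢
    generalize A' 0 2 = r, A' 1 2 = s, A' 2 2 = w at hA'det ⊢
    revert hA'det
    fin_cases r <;> fin_cases s <;> fin_cases w <;>
      first
        | (intro h; exact absurd h (by decide))
        | (intro _; apply_rules [covered0, covered1, covered2, covered3, covered4, covered5,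
            covered6, covered7, covered8])

/-- The case of three elements. -/
theorem exists_product_of_conj_three (g : SpecialLinearGroup (Fin 3) (ZMod 3))
    (hg : NonScalar g.1) :
    ∃ u v : SpecialLinearGroup (Fin 3) (ZMod 3), g = (u * x13 * u⁻¹) * (v * x13 * v⁻¹) := by
  obtain ⟨P, A, hA, hA0, hA1, hA2⟩ := exists_firstCol g.1 hg 0
  have hAdet : A.det = 1 := by
    have := congrArg Matrix.det hA
    rw [det_mul, det_mul, g.2, one_mul] at this
    exact (mul_eq_left₀ (GeneralLinearGroup.det_ne_zero P)).1 this.symm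
  obtain ⟨Q, A', hA', B, C, hB, hC, hBC⟩ := covered_of_firstCol A hAdet hA0 hA1 hA2
  set R : GL (Fin 3) (ZMod 3) := P * Q with hR
  have hgR : g.1 * R.1 = R.1 * A' := by
    rw [hR, Units.val_mul, ← mul_assoc, hA, mul_assoc, hA', mul_assoc]
  -- in degree 3 over 𝔽₃ every invertible matrix is ± a matrix of determinant one
  obtain ⟨T, ε, hε, hT⟩ : ∃ (T : SpecialLinearGroup (Fin 3) (ZMod 3)) (ε : ZMod 3),
      ε ≠ 0 ∧ T.1 = ε • R.1 := by
    have h0 : R.1.det ≠ 0 := GeneralLinearGroup.det_ne_zero R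
    have : ∀ e : ZMod 3, e ≠ 0 → e ^ 3 * e = 1 := by decide
    exact ⟨⟨R.1.det • R.1, by rw [det_smul, Fintype.card_fin]; exact this _ h0⟩, R.1.det, h0, rfl⟩
  have hgT : g * T = T * (B * C) := by
    apply Subtype.ext
    show g.1 * T.1 = T.1 * (B.1 * C.1)
    rw [hT, mul_smul_comm, smul_mul_assoc, hgR, hBC]
  obtain ⟨b, hb⟩ := isConj_iff.1 hB
  obtain ⟨c, hc⟩ := isConj_iff.1 hC
  refine ⟨T * b, T * c, ?_⟩
  have : g = T * (B * C) * T⁻¹ := eq_mul_inv_of_mul_eq hgT
  rw [this, ← hb, ← hc]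
  group

end CfsgLib.SL3
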